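import Cfsg.Agent.BrauerInd.IntSpan
import Cfsg.Agent.ZStar.PartChar
import Cfsg.Agent.CharBasics.ModP

/-!
Characters modulo `p` see exactly the classes of `p'`-parts.

* `pow_sub_apply_pow` : `χ g ^ (p ^ k)` and `χ (g ^ (p ^ k))` agree modulo `p`;
* `exists_sep` : irreducible characters separate `p`-regular classes modulo `M`.
-/

set_option autoImplicit false
set_option linter.style.haveILetI false

namespace CfsgLib.BrauerInd

open Cfsg CfsgLib.Blocks

universe u

variable {G : Type u} [Group G] {p : ℕ}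

theorem sum_pow_sub (hp : p.Prime) (k : ℕ) {ι : Type*} (s : Finset ι) (a : ι → AlgInt) :
    ∃ γ : AlgInt, (∑ i ∈ s, a i) ^ p ^ k - ∑ i ∈ s, a i ^ p ^ k = (p : AlgInt) * γ := by
  classical
  induction s using Finset.induction_on with
  | empty => exact ⟨0, by simp [zero_pow (pow_ne_zero k hp.ne_zero)]⟩
  | @insert j s hj ih =>
    obtain ⟨γ, hγ⟩ := ih
    obtain ⟨r, hr⟩ := (Commute.all (a j) (∑ i ∈ s, a i)).exists_add_pow_prime_pow_eq hp k
    refine ⟨γ + a j * (∑ i ∈ s, a i) * r, ?_⟩
    rw [Finset.sum_insert hj, Finset.sum_insert hj, hr]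
    linear_combination hγ

/-- Frobenius congruence for character values. -/
theorem pow_sub_apply_pow [Finite G] (hp : p.Prime) {χ : G → ℂ} (h : IsCharacter G χ) (g : G) (k : ℕ) :
    ∃ γ : AlgInt, χ g ^ p ^ k - χ (g ^ p ^ k) = (p : ℂ) * (γ : ℂ) := by
  obtain ⟨lam, hl, hv⟩ := CharBasics.exists_eigen h g
  let a : Fin (charDegree χ) → AlgInt := fun i =>
    ⟨lam i, IsIntegral.of_pow (orderOf_pos g) (by rw [hl i]; exact isIntegral_one)⟩
  obtain ⟨γ, hγ⟩ := sum_pow_sub hp k Finset.univ a
  refine ⟨γ, ?_⟩
  have h1 : χ g = ∑ i, lam i := by simpa using hv 1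
  have := congrArg (fun z : AlgInt => (z : ℂ)) hγ
  push_cast at this
  rw [h1, hv]
  exact this

/-- Composition with a homomorphism preserves integral spans. -/
theorem intSpan_comp {E : Type u} [Group E] {f : G → ℂ} (hf : f ∈ intSpan G) (σ : E →* G) :
    (fun e => f (σ e)) ∈ intSpan E := by
  let L : (G → ℂ) →+ (E → ℂ) :=
    { toFun := fun f e => f (σ e)
      map_zero' := rfl
      map_add' := fun _ _ => rfl }
  have : intSpan G ≤ (intSpan E).comap L := by
    refine (AddSubgroup.closure_le _).2 ?_
    rintro _ ⟨c, χ, hc, hχ, rfl⟩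
    exact smul_mem_intSpan hc (CharBasics.isCharacter_comp hχ σ)
  exact this hf

/-- The `p'`-order multiple of the indicator of a `p'`-section is an integral combination of characters. -/
theorem section_mem_intSpan [Fintype G] [Fact p.Prime] (x : G) :
    open scoped Classical in
    (fun g : G => if IsConj x (ZStar.prest p g)
      then ((Nat.card G / p ^ (Nat.card G).factorization p : ℕ) : ℂ) else 0) ∈ intSpan G := by
  classical
  have hp : p.Prime := Fact.out
  set m := Nat.card G / p ^ (Nat.card G).factorization p with hm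
  refine mem_intSpan_of_elementary (fun g h => ?_) fun E hE => ?_
  · refine if_congr ?_ rfl rfl
    rw [(ZStar.part_conj (p := p) g h).2]
    exact ⟨fun k => k.trans (isConj_iff.2 ⟨h⁻¹, by group⟩), fun k => k.trans (isConj_iff.2 ⟨h, rfl⟩)⟩
  · haveI := Fintype.ofFinite E
    let π : E →* E :=
      { toFun := fun e => ZStar.prest p e
        map_one' := (ZStar.part_of_regular (p := p) (a := (1 : E)) (by rw [orderOf_one]; exact hp.not_dvd_one)).2
        map_mul' := fun a b => (ZStar.part_mul_of_elem (p := p) hE a b).2 }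
    haveI := Fintype.ofFinite π.range
    have hR : ¬ p ∣ Nat.card π.range := by
      intro hd
      obtain ⟨y, hy⟩ := exists_prime_orderOf_dvd_card' p hd
      obtain ⟨e, he⟩ := y.2
      have : orderOf (ZStar.prest p e) = p := by
        rw [show ZStar.prest p e = (y : E) from he, Subgroup.orderOf_coe, hy]
      exact (ZStar.part_spec (p := p) e).2.2.2.1 (by rw [this])
    have hdvd : Nat.card π.range ∣ m := by
      have h1 : Nat.card π.range ∣ p ^ (Nat.card G).factorization p * m := by
        rw [hm, Nat.mul_div_cancel' (Nat.ordProj_dvd _ _)]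
        exact (Subgroup.card_subgroup_dvd_card _).trans (Subgroup.card_subgroup_dvd_card E)
      exact Nat.Coprime.dvd_of_dvd_mul_left ((hp.coprime_iff_not_dvd.2 hR).symm.pow_right _) h1
    obtain ⟨c, hc⟩ := hdvd
    have hf : (fun r : π.range => if IsConj x ((r : E) : G) then (m : ℂ) else 0) ∈ intSpan π.range := by
      refine mem_intSpan_of_inner (fun g h => ?_) fun ξ => ?_
      · refine if_congr ?_ rfl rfl
        have hgh : IsConj ((g : E) : G) (((h * g * h⁻¹ : π.range) : E) : G) :=
          isConj_iff.2 ⟨((h : E) : G), by simp⟩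
        exact ⟨fun k => k.trans hgh.symm, fun k => k.trans hgh⟩
      · rw [CharBasics.classInner_eq, Finset.mul_sum]
        refine IsIntegral.sum _ fun r _ => ?_
        split_ifs with hr
        · have hne : (Nat.card π.range : ℂ) ≠ 0 := Nat.cast_ne_zero.2 Nat.card_pos.ne'
          rw [← mul_assoc, hc, Nat.cast_mul, inv_mul_cancel_left₀ hne]
          exact (map_natCast (algebraMap ℤ ℂ) c ▸ isIntegral_algebraMap).mul
            (CharBasics.isIntegral_apply (CharBasics.isCharacter_star (CharBasics.isCharacter_of_irr ξ.2)) r)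
        · simpa using isIntegral_zero
    have h := intSpan_comp hf π.rangeRestrict
    convert h using 1
    funext e
    have e1 : ((π.rangeRestrict e : E) : G) = ZStar.prest p (e : G) := by
      show E.subtype (ZStar.prest p e) = _
      rw [← (ZStar.part_map (p := p) E.subtype e).2]
      rfl
    rw [e1]

/-- Irreducible characters separate `p`-regular classes modulo `M`. -/
theorem exists_sep [Finite G] {M : Ideal AlgInt} (hM : IsPModular p M) {x y : G}
    (hx : ¬ p ∣ orderOf x) (hy : ¬ p ∣ orderOf y) (h : ¬ IsConj x y) :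
    ∃ χ : IrrCharacter G, ¬ MemLocalIdeal M ((χ : G → ℂ) x - (χ : G → ℂ) y) := by
  classical
  haveI := Fintype.ofFinite G
  haveI := Fact.mk hM.1
  haveI : Fintype (IrrCharacter G) := @Fintype.ofFinite _ CharBasics.finite_irrCharacter
  by_contra hcon
  push Not at hcon
  set m := Nat.card G / p ^ (Nat.card G).factorization p with hm
  have hθ := section_mem_intSpan (p := p) x
  obtain ⟨hcl, hint⟩ := intSpan_spec hθ
  have e := CharBasics.classFun_expand hcl
  have ex := congrFun e x
  have ey := congrFun e y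
  rw [(ZStar.part_of_regular (p := p) hx).2, if_pos (IsConj.refl x)] at ex
  rw [(ZStar.part_of_regular (p := p) hy).2, if_neg h] at ey
  simp only [Finset.sum_apply, Pi.smul_apply, smul_eq_mul] at ex ey
  have hmem : MemLocalIdeal M (m : ℂ) := by
    have e2 := congrArg₂ (· - ·) ex ey
    simp only [sub_zero] at e2
    rw [e2, ← Finset.sum_sub_distrib]
    refine memLocalIdeal_sum hM _ fun χ _ => ?_
    rw [← mul_sub]
    exact memLocalIdeal_mul_left hM (memLocalRing_of_isIntegral hM (hint χ)) (hcon χ)
  exact Nat.not_dvd_ordCompl hM.1 Nat.card_pos.ne' ((memLocalIdeal_natCast_iff hM m).1 hmem)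

/-- If `q`-th powers agree modulo `p` (`q` a power of `p`), the elements agree modulo `M`. -/
theorem sub_mem_of_pow_sub {M : Ideal AlgInt} (hM : IsPModular p M) {a b : ℂ} (ha : IsIntegral ℤ a)
    (hb : IsIntegral ℤ b) (k : ℕ) {γ : AlgInt} (h : a ^ p ^ k - b ^ p ^ k = (p : ℂ) * (γ : ℂ)) :
    MemLocalIdeal M (a - b) := by
  let A : AlgInt := ⟨a, ha⟩
  let B : AlgInt := ⟨b, hb⟩
  have hAB : A ^ p ^ k - B ^ p ^ k = (p : AlgInt) * γ := Subtype.ext (by push_cast; exact h)
  obtain ⟨r, hr⟩ := (Commute.all (A - B) B).exists_add_pow_prime_pow_eq hM.1 k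
  rw [sub_add_cancel] at hr
  have hmem : (A - B) ^ p ^ k ∈ M := by
    have e : (A - B) ^ p ^ k = (p : AlgInt) * (γ - (A - B) * B * r) := by linear_combination hAB - hr
    rw [e]; exact M.mul_mem_right _ hM.2.2
  have := (memLocalIdeal_coe_iff hM (A - B)).2 ((isPrime_of_modular hM).mem_of_pow_mem _ hmem)
  simpa [A, B] using this

/-- With `g = u * v`, `u` a commuting `p`-element, the powers of order `|G|_p` of `g` and `v` agree. -/
theorem mul_pow_eq_of_pelt [Finite G] (hp : p.Prime) {u v : G} (hc : Commute u v) (hu : ∃ k : ℕ, orderOf u = p ^ k) :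
    (u * v) ^ p ^ (Nat.card G).factorization p = v ^ p ^ (Nat.card G).factorization p := by
  obtain ⟨k, hk⟩ := hu
  have hd : orderOf u ∣ p ^ (Nat.card G).factorization p := by
    rw [hk]
    exact pow_dvd_pow p ((hp.pow_dvd_iff_le_factorization Nat.card_pos.ne').1 (hk ▸ orderOf_dvd_natCard u))
  rw [hc.mul_pow, orderOf_dvd_iff_pow_eq_one.1 hd, one_mul]

/-- A character agrees modulo `M` at `u * v` and at `v` for a commuting `p`-element `u`. -/
theorem apply_mul_sub_mem [Finite G] {M : Ideal AlgInt} (hM : IsPModular p M) {χ : G → ℂ} (hχ : IsCharacter G χ)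
    {u v : G} (hc : Commute u v) (hu : ∃ k : ℕ, orderOf u = p ^ k) : MemLocalIdeal M (χ (u * v) - χ v) := by
  obtain ⟨γ, hγ⟩ := pow_sub_apply_pow hM.1 hχ (u * v) ((Nat.card G).factorization p)
  obtain ⟨δ, hδ⟩ := pow_sub_apply_pow hM.1 hχ v ((Nat.card G).factorization p)
  rw [mul_pow_eq_of_pelt hM.1 hc hu] at hγ
  refine sub_mem_of_pow_sub hM (CharBasics.isIntegral_apply hχ _) (CharBasics.isIntegral_apply hχ _)
    ((Nat.card G).factorization p) (γ := γ - δ) ?_
  push_cast
  linear_combination hγ - hδ

end CfsgLib.BrauerInd
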