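import Mathlib
import Cfsg.Agent.CharBasics.Ortho
import Cfsg.Agent.BrauerInd.Induction

/-!
Combinations of characters with algebraic integer coefficients.

* `intSpan G` : the additive group generated by the `c • χ` with `c` integral, `χ` a character;
* `mem_intSpan_iff` : membership = class function with integral inner products;
* `mem_intSpan_of_elementary` : the characterization by elementary subgroups.
-/

set_option autoImplicit false
set_option linter.style.haveILetI false

namespace CfsgLib.BrauerInd

open scoped ComplexConjugate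

universe u

variable {G : Type u} [Group G]

/-- The additive group generated by integral multiples of characters. -/
def intSpan (G : Type u) [Group G] : AddSubgroup (G → ℂ) :=
  AddSubgroup.closure {f | ∃ (c : ℂ) (χ : G → ℂ), IsIntegral ℤ c ∧ Cfsg.IsCharacter G χ ∧ f = c • χ}

theorem smul_mem_intSpan {c : ℂ} (hc : IsIntegral ℤ c) {χ : G → ℂ} (hχ : Cfsg.IsCharacter G χ) :
    c • χ ∈ intSpan G :=
  AddSubgroup.subset_closure ⟨c, χ, hc, hχ, rfl⟩

theorem intSpan_spec [Fintype G] {f : G → ℂ} (hf : f ∈ intSpan G) :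
    Cfsg.IsClassFunction G f ∧
      ∀ χ : Cfsg.IrrCharacter G, IsIntegral ℤ (Cfsg.classInner f (χ : G → ℂ)) := by
  induction hf using AddSubgroup.closure_induction with
  | mem f hf =>
    obtain ⟨c, θ, hc, hθ, rfl⟩ := hf
    refine ⟨fun g h => by simp [CharBasics.isClassFunction hθ g h], fun χ => ?_⟩
    obtain ⟨m, hm⟩ := CharBasics.classInner_character_nat hθ χ
    rw [CharBasics.classInner_smul_left, hm]
    exact hc.mul (map_natCast (algebraMap ℤ ℂ) m ▸ isIntegral_algebraMap)
  | zero =>
    refine ⟨fun g h => rfl, fun χ => ?_⟩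
    simp [CharBasics.classInner_eq, isIntegral_zero]
  | add a b _ _ ha hb =>
    refine ⟨fun g h => by simp [ha.1 g h, hb.1 g h], fun χ => ?_⟩
    rw [CharBasics.classInner_add_left]
    exact (ha.2 χ).add (hb.2 χ)
  | neg a _ ha =>
    refine ⟨fun g h => by simp [ha.1 g h], fun χ => ?_⟩
    have : Cfsg.classInner (-a) (χ : G → ℂ) = -Cfsg.classInner a (χ : G → ℂ) := by
      simp [CharBasics.classInner_eq]
    rw [this]
    exact (ha.2 χ).neg

theorem mem_intSpan_of_inner [Fintype G] {f : G → ℂ} (hf : Cfsg.IsClassFunction G f)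
    (h : ∀ χ : Cfsg.IrrCharacter G, IsIntegral ℤ (Cfsg.classInner f (χ : G → ℂ))) :
    f ∈ intSpan G := by
  classical
  haveI := Fintype.ofFinite (Cfsg.IrrCharacter G)
  rw [CharBasics.classFun_expand hf]
  exact AddSubgroup.sum_mem _ fun χ _ => smul_mem_intSpan (h χ) (CharBasics.isCharacter_of_irr χ.2)

theorem mem_intSpan_iff [Fintype G] {f : G → ℂ} :
    f ∈ intSpan G ↔ Cfsg.IsClassFunction G f ∧
      ∀ χ : Cfsg.IrrCharacter G, IsIntegral ℤ (Cfsg.classInner f (χ : G → ℂ)) :=
  ⟨intSpan_spec, fun h => mem_intSpan_of_inner h.1 h.2⟩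

theorem indFun_mem_intSpan [Fintype G] (H : Subgroup G) {f : H → ℂ} (hf : f ∈ intSpan H) :
    Cfsg.indFun H f ∈ intSpan G := by
  have : intSpan H ≤ (intSpan G).comap (indLin H).toAddMonoidHom := by
    refine (AddSubgroup.closure_le _).2 ?_
    rintro _ ⟨c, χ, hc, hχ, rfl⟩
    show Cfsg.indFun H (c • χ) ∈ intSpan G
    rw [indFun_smul]
    exact smul_mem_intSpan hc (isCharacter_indFun H hχ)
  exact this hf

/-- A class function is an integral combination of characters if its restrictions to the elementary
subgroups are. -/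
theorem mem_intSpan_of_elementary [Fintype G] {θ : G → ℂ} (hθ : Cfsg.IsClassFunction G θ)
    (h : ∀ (E : Subgroup G), IsElem E → (fun e : E => θ e) ∈ intSpan E) : θ ∈ intSpan G := by
  have hone : (fun _ => 1 : G → ℂ) ∈ monomialSpan G :=
    isCharacter_mem_monomialSpan (CharBasics.isCharacter_of_irr CharBasics.isIrrCharacter_one)
  have := mul_mem_of_forall hθ (intSpan G) (fun E l hE => by
    apply indFun_mem_intSpan
    have hmul : intSpan E ≤
        (intSpan E).comap (AddMonoidHom.mulRight (fun e : E => (l e : ℂ))) := by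
      refine (AddSubgroup.closure_le _).2 ?_
      rintro _ ⟨c, χ, hc, hχ, rfl⟩
      show (c • χ) * _ ∈ intSpan E
      rw [smul_mul_assoc]
      exact smul_mem_intSpan hc (CharBasics.isCharacter_mul hχ (isCharacter_linear l))
    exact hmul (h E hE)) hone
  rwa [show θ * (fun _ => 1 : G → ℂ) = θ from mul_one θ] at this

end CfsgLib.BrauerInd
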